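import Groth.Agent.AlgSpCov.SmoothLocalST
import Groth.Agent.AlgSpD.HasAt
import Groth.Agent.AlgSp.PointsMor
import Groth.Agent.AlgSp.Space

/-!
# Properties local for etale source coverings and smooth base coverings
-/

universe u

open CategoryTheory CategoryTheory.Limits AlgebraicGeometry

set_option autoImplicit false
set_option backward.isDefEq.respectTransparency false
set_option backward.isDefEq.respectTransparency.types false

namespace Groth.Agent.ESLocal

open _root_.AlgSp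
open Groth.Agent

variable {S : Scheme.{u}}

/-- The hypotheses: local on the source and base, stable under postcomposition with open immersions. -/
structure Hyp (P : MorphismProperty (Sp S)) : Prop where
  source : IsLocalOnSource (IsEtCover (S := S)) P
  base : IsLocalOnBase (IsSmCover (S := S)) P
  post : ∀ ⦃X Y Z : Space S⦄ (f : X ⟶ Y) (j : Y ⟶ Z), P f.hom → RepWith @IsOpenImmersion j.hom → P (f ≫ j).hom

variable {P : MorphismProperty (Sp S)} {X Y Z X' Y' : Sp S}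

namespace Hyp

variable (hP : Hyp P)
include hP

theorem postOpen (hX : IsAlgSpace X) (hY : IsAlgSpace Y) (hZ : IsAlgSpace Z) (f : X ⟶ Y) (j : Y ⟶ Z)
    (hf : P f) (hj : RepWith @IsOpenImmersion j) : P (f ≫ j) :=
  hP.post (X := ⟨X, hX⟩) (Y := ⟨Y, hY⟩) (Z := ⟨Z, hZ⟩) (ObjectProperty.homMk f) (ObjectProperty.homMk j) hf hj

theorem precomp (hX : IsAlgSpace X) (hY : IsAlgSpace Y) (hZ : IsAlgSpace Z) (e : X ⟶ Y) (g : Y ⟶ Z)
    (he : IsEtaleMor e) (hg : P g) : P (e ≫ g) := by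
  let Xi : ULift.{u} Bool → Sp S := fun b => match b.down with | true => X | false => Y
  let gi : ∀ b, Xi b ⟶ Y := fun ⟨b⟩ => match b with | true => e | false => 𝟙 Y
  exact (hP.source Xi gi hY (fun ⟨b⟩ => by cases b <;> assumption)
    ⟨fun ⟨b⟩ => by cases b; exacts [AlgSpCov.etale_id hY, he], fun y => ⟨⟨false⟩, y, Points.map_id y⟩⟩ g hZ).1 hg ⟨true⟩

theorem baseChange (hX : IsAlgSpace X) (hY : IsAlgSpace Y) (hX' : IsAlgSpace X') (hY' : IsAlgSpace Y')
    {f : X ⟶ Y} {g : Y' ⟶ Y} {f' : X' ⟶ Y'} {g' : X' ⟶ X} (sq : IsPullback g' f' f g) (hg : LocP @Smooth g)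
    (hf : P f) : P f' :=
  AlgSpCov.of_isLocalOnBase_baseChange AlgSpCov.openClass_smooth hP.base hX hY hX' hY' sq hg hf

theorem baseChange_etale (hX : IsAlgSpace X) (hY : IsAlgSpace Y) (hX' : IsAlgSpace X') (hY' : IsAlgSpace Y')
    {f : X ⟶ Y} {g : Y' ⟶ Y} {f' : X' ⟶ Y'} {g' : X' ⟶ X} (sq : IsPullback g' f' f g) (hg : IsEtaleMor g)
    (hf : P f) : P f' :=
  hP.baseChange hX hY hX' hY' sq (AlgSpCov.smooth_of_etale hg) hf

theorem of_source {ι : Type u} (hX : IsAlgSpace X) (hY : IsAlgSpace Y) (f : X ⟶ Y) (Xi : ι → Sp S)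
    (g : ∀ i, Xi i ⟶ X) (hXi : ∀ i, IsAlgSpace (Xi i)) (hg : ∀ i, IsEtaleMor (g i))
    (hs : ∀ x : Points X, ∃ i, x ∈ Set.range (Points.map (g i))) (h : ∀ i, P (g i ≫ f)) : P f :=
  (hP.source Xi g hX hXi ⟨hg, hs⟩ f hY).2 h

theorem of_base {ι : Type u} (hX : IsAlgSpace X) (hY : IsAlgSpace Y) (f : X ⟶ Y) (Yi : ι → Sp S)
    (g : ∀ i, Yi i ⟶ Y) (hYi : ∀ i, IsAlgSpace (Yi i)) (hg : ∀ i, LocP @Smooth (g i))
    (hs : ∀ y : Points Y, ∃ i, y ∈ Set.range (Points.map (g i)))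
    (h : ∀ i, P (pullback.snd f (g i))) : P f :=
  (hP.base Yi g hY hYi ⟨hg, hs⟩ f hX _ (fun i => pullback.snd f (g i)) (fun i => pullback.fst f (g i))
    (fun i => AlgSp.isAlgSpace_pullback hY hX (hYi i) _ _) fun i => IsPullback.of_hasPullback f (g i)).2 h

/-- Testing a composite on an etale covering of the middle. -/
theorem of_middle {ι : Type u} (hX : IsAlgSpace X) (hY : IsAlgSpace Y) (hZ : IsAlgSpace Z) (f : X ⟶ Y) (g : Y ⟶ Z)
    (Yi : ι → Sp S) (a : ∀ i, Yi i ⟶ Y) (hYi : ∀ i, IsAlgSpace (Yi i)) (ha : ∀ i, IsEtaleMor (a i))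
    (hs : ∀ y : Points Y, ∃ i, y ∈ Set.range (Points.map (a i))) (hf : P f)
    (h : ∀ i (X' : Sp S) (f' : X' ⟶ Yi i), IsAlgSpace X' → P f' → P (f' ≫ a i ≫ g)) : P (f ≫ g) := by
  have hXi : ∀ i, IsAlgSpace (pullback f (a i)) := fun i => AlgSp.isAlgSpace_pullback hY hX (hYi i) _ _
  refine hP.of_source hX hZ _ _ (fun i => pullback.fst f (a i)) hXi
    (fun i => AlgSpCov.openClass_etale.baseChange hX hY (hXi i) (hYi i) _ _ _ _ (IsPullback.of_hasPullback _ _) (ha i))
    (fun x => ?_) fun i => ?_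
  · obtain ⟨i, z, hz⟩ := hs (Points.map f x)
    obtain ⟨w, hw, -⟩ := AlgSpB.exists_of_isPullback (IsPullback.of_hasPullback f (a i)) x z hz.symm
    exact ⟨i, w, hw⟩
  · rw [pullback.condition_assoc]
    exact h i _ _ (hXi i) (hP.baseChange_etale hX hY (hXi i) (hYi i) (IsPullback.of_hasPullback f (a i)) (ha i) hf)

end Hyp

theorem isEtaleMor_yon {U V : Over S} (h : U ⟶ V) [Etale h.left] : IsEtaleMor ((yon S).map h) :=
  (isEtaleMor_yon_map_iff h).2 inferInstance

theorem smooth_yon {U V : Over S} (h : U ⟶ V) [Smooth h.left] : LocP @Smooth ((yon S).map h) :=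
  AlgSpCov.locP_of_repWith AlgSpCov.etaleLocal_smooth ((repWith_yon_map_iff _ _).2 inferInstance)

theorem range_map_yon {U V : Over S} (h : U ⟶ V) :
    Set.range (Points.map ((yon S).map h)) = Points.schemeHomeo V '' Set.range h.left := by
  have key : ∀ x, Points.map ((yon S).map h) (Points.schemeHomeo U x) = Points.schemeHomeo V (h.left x) := fun x => by
    show Points.map _ (Points.ofPt (𝟙 _) x) = _
    rw [Points.map_ofPt, Category.id_comp, ← Category.comp_id ((yon S).map h), AlgSpB.ofPt_map_comp]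
    rfl
  ext y
  constructor
  · rintro ⟨x, rfl⟩
    obtain ⟨x, rfl⟩ := (Points.schemeHomeo U).surjective x
    exact ⟨_, ⟨x, rfl⟩, (key x).symm⟩
  · rintro ⟨_, ⟨x, rfl⟩, rfl⟩
    exact ⟨_, key x⟩

theorem mem_range_map_yon {U V : Over S} (h : U ⟶ V) {v : ↥V.left} :
    Points.schemeHomeo V v ∈ Set.range (Points.map ((yon S).map h)) ↔ v ∈ Set.range h.left := by
  rw [range_map_yon]
  exact (Points.schemeHomeo V).injective.mem_set_image

/-- An etale covering by affine schemes. -/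
theorem exists_affine_cover (hX : IsAlgSpace X) :
    ∃ (ι : Type u) (U : ι → Over S) (a : ∀ i, (yon S).obj (U i) ⟶ X), (∀ i, IsAffine (U i).left) ∧
      (∀ i, RepWith @Etale (a i)) ∧ ∀ x : Points X, ∃ i, x ∈ Set.range (Points.map (a i)) := by
  obtain ⟨U, p, hpe, hps⟩ := hX.atlas
  let W : U.left.affineOpens → Over S := fun V => Over.mk (V.1.ι ≫ U.hom)
  let j : ∀ V, W V ⟶ U := fun V => Over.homMk V.1.ι rfl
  refine ⟨U.left.affineOpens, W, fun V => (yon S).map (j V) ≫ p, fun V => V.2, fun V => ?_, fun x => ?_⟩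
  · exact (RepWith @Etale : MorphismProperty (Sp S)).comp_mem _ _
      ((repWith_yon_map_iff _ _).2 (inferInstanceAs (Etale V.1.ι))) hpe
  · obtain ⟨z, rfl⟩ := (AlgSp.repWith_surjective_iff p hps.1).1 hps x
    obtain ⟨z, rfl⟩ := (Points.schemeHomeo U).surjective z
    obtain ⟨_, ⟨V, hV, rfl⟩, hz, -⟩ := U.left.isBasis_affineOpens.exists_subset_of_mem_open
      (Set.mem_univ z) isOpen_univ
    obtain ⟨w, hw⟩ := (mem_range_map_yon (j ⟨V, hV⟩)).2 (show z ∈ Set.range (Scheme.Opens.ι V) by rw [Scheme.Opens.range_ι]; exact hz)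
    exact ⟨⟨V, hV⟩, w, by rw [Points.map_comp, hw]⟩

end Groth.Agent.ESLocal
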