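import Groth.Agent.ESLocal.EtalePost
import Groth.Agent.FlatMono.Nhd
import Mathlib.RingTheory.TensorProduct.MvPolynomial
import Mathlib.Combinatorics.Nullstellensatz
import Mathlib.RingTheory.RootsOfUnity.AlgebraicallyClosed
import Mathlib.FieldTheory.IsAlgClosed.AlgebraicClosure

/-!
# Descending a property along affine space
-/

universe u

open CategoryTheory CategoryTheory.Limits AlgebraicGeometry TensorProduct

set_option autoImplicit false
set_option linter.style.haveILetI false
set_option backward.isDefEq.respectTransparency false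
set_option backward.isDefEq.respectTransparency.types false

namespace Groth.Agent.ESLocal

open _root_.AlgSp
open Groth.Agent Groth.Agent.FlatMono

attribute [local instance] MvPolynomial.algebraMvPolynomial

theorem etale_mapMvPolynomial {R R' : Type u} [CommRing R] [CommRing R'] [Algebra R R'] [Algebra.Etale R R'] (n : ℕ) :
    (MvPolynomial.map (σ := Fin n) (algebraMap R R')).Etale := by
  have : Algebra.Etale (MvPolynomial (Fin n) R) (MvPolynomial (Fin n) R') :=
    .of_equiv (Algebra.IsPushout.equiv R (MvPolynomial (Fin n) R) R' (MvPolynomial (Fin n) R'))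
  exact RingHom.etale_algebraMap.2 this

/-- Finitely many nonvanishing substitutions: some vector of powers of a primitive root works. -/
theorem exists_good {K : Type u} [Field K] {n : ℕ} (a : Fin n → K) (G : MvPolynomial (Fin n) K) (hG : G ≠ 0) {ℓ : ℕ}
    {ζ : K} (hζ : IsPrimitiveRoot ζ ℓ)
    (hℓ : (MvPolynomial.aeval (fun i => MvPolynomial.C (a i) - MvPolynomial.X i) G).totalDegree < ℓ) :
    ∃ j : Fin n → ℕ, MvPolynomial.eval (fun i => a i - ζ ^ j i) G ≠ 0 := by
  classical
  let σ : MvPolynomial (Fin n) K →ₐ[K] MvPolynomial (Fin n) K :=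
    MvPolynomial.aeval fun i => MvPolynomial.C (a i) - MvPolynomial.X i
  have hσ : σ.comp σ = AlgHom.id K _ := MvPolynomial.algHom_ext fun i => by simp [σ]
  have hH : σ G ≠ 0 := fun h => hG (by
    have := AlgHom.congr_fun hσ G
    rw [AlgHom.comp_apply, h, map_zero] at this
    exact this.symm)
  let T : Finset K := (Finset.range ℓ).image (ζ ^ ·)
  have hT : T.card = ℓ := by
    rw [Finset.card_image_of_injOn, Finset.card_range]
    intro i hi j hj e
    exact hζ.pow_inj (Finset.mem_range.1 hi) (Finset.mem_range.1 hj) e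
  by_contra hall
  simp only [not_exists, not_not] at hall
  refine hH (MvPolynomial.eq_zero_of_eval_zero_at_prod_finset (σ G) (fun _ => T)
    (fun i => hT.symm ▸ (MvPolynomial.degreeOf_le_totalDegree _ i).trans_lt hℓ) fun x hx => ?_)
  choose j hj hj' using fun i => Finset.mem_image.1 (hx i)
  have : (MvPolynomial.aeval x).comp σ = MvPolynomial.aeval (fun i => a i - ζ ^ j i) :=
    MvPolynomial.algHom_ext fun i => by simp [σ, hj']
  exact (AlgHom.congr_fun this G).trans (hall j)

theorem mapAlgHom_C {R S₁ S₂ : Type u} [CommRing R] [CommRing S₁] [CommRing S₂] [Algebra R S₁] [Algebra R S₂]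
    (f : S₁ →ₐ[R] S₂) (n : ℕ) (c : S₁) :
    MvPolynomial.mapAlgHom (σ := Fin n) f (MvPolynomial.C c) = MvPolynomial.C (f c) :=
  MvPolynomial.map_C f.toRingHom c

theorem mapAlgHom_X {R S₁ S₂ : Type u} [CommRing R] [CommRing S₁] [CommRing S₂] [Algebra R S₁] [Algebra R S₂]
    (f : S₁ →ₐ[R] S₂) (n : ℕ) (i : Fin n) :
    MvPolynomial.mapAlgHom (σ := Fin n) f (MvPolynomial.X i) = MvPolynomial.X i :=
  MvPolynomial.map_X f.toRingHom i

theorem isPushout_mvPolynomial (R R' : Type u) [CommRing R] [CommRing R'] [Algebra R R'] (n : ℕ) :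
    IsPushout (CommRingCat.ofHom (algebraMap R (MvPolynomial (Fin n) R))) (CommRingCat.ofHom (algebraMap R R'))
      (CommRingCat.ofHom (MvPolynomial.map (σ := Fin n) (algebraMap R R')))
      (CommRingCat.ofHom (algebraMap R' (MvPolynomial (Fin n) R'))) :=
  CommRingCat.isPushout_of_isPushout R (MvPolynomial (Fin n) R) R' (MvPolynomial (Fin n) R')

section Translate

variable {A C A' : Type u} [CommRing A] [CommRing C] [CommRing A'] [Algebra A C] [Algebra A A'] (n : ℕ)

variable (A C A') in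
/-- Base change of coefficients. -/
noncomputable abbrev prC : MvPolynomial (Fin n) C →ₐ[A] MvPolynomial (Fin n) (C ⊗[A] A') :=
  MvPolynomial.mapAlgHom Algebra.TensorProduct.includeLeft

variable (A C A') in
/-- The base change of the projection. -/
noncomputable abbrev qA' : MvPolynomial (Fin n) A' →ₐ[A] MvPolynomial (Fin n) (C ⊗[A] A') :=
  MvPolynomial.mapAlgHom Algebra.TensorProduct.includeRight

theorem isPushout_mapAlgHom :
    IsPushout (CommRingCat.ofHom (MvPolynomial.mapAlgHom (σ := Fin n) (Algebra.ofId A C)).toRingHom)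
      (CommRingCat.ofHom (MvPolynomial.mapAlgHom (σ := Fin n) (Algebra.ofId A A')).toRingHom)
      (CommRingCat.ofHom (prC A C A' n).toRingHom) (CommRingCat.ofHom (qA' A C A' n).toRingHom) := by
  let ιA : A' →ₐ[A] C ⊗[A] A' := Algebra.TensorProduct.includeRight
  letI : Algebra A' (C ⊗[A] A') := ιA.toRingHom.toAlgebra
  haveI : IsScalarTower A A' (C ⊗[A] A') := IsScalarTower.of_algebraMap_eq fun x => (ιA.commutes x).symm
  have h2 : IsPushout (CommRingCat.ofHom (algebraMap A' (MvPolynomial (Fin n) A'))) (CommRingCat.ofHom ιA.toRingHom)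
      (CommRingCat.ofHom (qA' A C A' n).toRingHom)
      (CommRingCat.ofHom (algebraMap (C ⊗[A] A') (MvPolynomial (Fin n) (C ⊗[A] A')))) :=
    isPushout_mvPolynomial A' (C ⊗[A] A') n
  have h0 := CommRingCat.isPushout_of_isPushout A (MvPolynomial (Fin n) A) C (MvPolynomial (Fin n) C)
  have h1 : IsPushout (CommRingCat.ofHom (algebraMap A A')) (CommRingCat.ofHom (algebraMap A C))
      (CommRingCat.ofHom ιA.toRingHom)
      (CommRingCat.ofHom (Algebra.TensorProduct.includeLeftRingHom : C →+* C ⊗[A] A')) :=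
    (CommRingCat.isPushout_tensorProduct A C A').flip
  refine (IsPushout.of_left ?_ ?_ h0).flip
  · have h := h1.paste_horiz h2
    convert h using 1
    · refine CommRingCat.hom_ext (RingHom.ext fun x => ?_)
      exact mapAlgHom_C (Algebra.ofId A A') n x
    · refine CommRingCat.hom_ext (RingHom.ext fun x => ?_)
      simp only [CommRingCat.hom_comp, CommRingCat.hom_ofHom, RingHom.comp_apply, MvPolynomial.algebraMap_eq]
      exact (mapAlgHom_C (R := A) (S₁ := C) (S₂ := C ⊗[A] A') Algebra.TensorProduct.includeLeft n x).trans rfl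
  · refine CommRingCat.hom_ext (MvPolynomial.ringHom_ext (fun x => ?_) fun i => ?_)
    · show qA' A C A' n (MvPolynomial.mapAlgHom (Algebra.ofId A A') (MvPolynomial.C x)) =
        prC A C A' n (MvPolynomial.mapAlgHom (Algebra.ofId A C) (MvPolynomial.C x))
      rw [mapAlgHom_C, mapAlgHom_C, mapAlgHom_C, mapAlgHom_C, Algebra.ofId_apply, Algebra.ofId_apply,
        AlgHom.commutes, AlgHom.commutes]
    · show qA' A C A' n (MvPolynomial.mapAlgHom (Algebra.ofId A A') (MvPolynomial.X i)) =
        prC A C A' n (MvPolynomial.mapAlgHom (Algebra.ofId A C) (MvPolynomial.X i))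
      rw [mapAlgHom_X, mapAlgHom_X, mapAlgHom_X, mapAlgHom_X]

variable (C) in
/-- Translation by `s` composed with base change of coefficients. -/
noncomputable def trC (s : Fin n → A') : MvPolynomial (Fin n) C →ₐ[A] MvPolynomial (Fin n) (C ⊗[A] A') :=
  ((MvPolynomial.aeval fun i => MvPolynomial.X i + MvPolynomial.C (Algebra.TensorProduct.includeRight (s i)) :
    MvPolynomial (Fin n) (C ⊗[A] A') →ₐ[C ⊗[A] A'] MvPolynomial (Fin n) (C ⊗[A] A')).restrictScalars A).comp
    (prC A C A' n)

variable (A) in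
/-- Translation by `s` composed with base change of coefficients. -/
noncomputable def trA (s : Fin n → A') : MvPolynomial (Fin n) A →ₐ[A] MvPolynomial (Fin n) A' :=
  ((MvPolynomial.aeval fun i => MvPolynomial.X i + MvPolynomial.C (s i) :
    MvPolynomial (Fin n) A' →ₐ[A'] MvPolynomial (Fin n) A').restrictScalars A).comp
    (MvPolynomial.mapAlgHom (Algebra.ofId A A'))

theorem trC_C (s : Fin n → A') (c : C) :
    trC C n s (MvPolynomial.C c) = MvPolynomial.C (c ⊗ₜ[A] (1 : A')) := by
  simp only [trC, AlgHom.comp_apply, AlgHom.restrictScalars_apply, mapAlgHom_C, MvPolynomial.aeval_C,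
    Algebra.TensorProduct.includeLeft_apply, MvPolynomial.algebraMap_eq]

theorem trC_X (s : Fin n → A') (i : Fin n) :
    trC C n s (MvPolynomial.X i) = MvPolynomial.X i + MvPolynomial.C ((1 : C) ⊗ₜ[A] s i) := by
  simp only [trC, AlgHom.comp_apply, AlgHom.restrictScalars_apply, mapAlgHom_X, MvPolynomial.aeval_X,
    Algebra.TensorProduct.includeRight_apply]

/-- Translation is an automorphism. -/
noncomputable def shift {R : Type u} [CommRing R] (s : Fin n → R) :
    MvPolynomial (Fin n) R ≃ₐ[R] MvPolynomial (Fin n) R :=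
  AlgEquiv.ofAlgHom (MvPolynomial.aeval fun i => MvPolynomial.X i + MvPolynomial.C (s i))
    (MvPolynomial.aeval fun i => MvPolynomial.X i - MvPolynomial.C (s i))
    (MvPolynomial.algHom_ext fun i => by simp) (MvPolynomial.algHom_ext fun i => by simp)

theorem trC_comm (s : Fin n → A') :
    (trC C n s).comp (MvPolynomial.mapAlgHom (Algebra.ofId A C)) = (qA' A C A' n).comp (trA A n s) := by
  refine MvPolynomial.algHom_ext fun i => ?_
  simp only [AlgHom.comp_apply, mapAlgHom_X, trC_X, trA, AlgHom.restrictScalars_apply, MvPolynomial.aeval_X,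
    map_add, mapAlgHom_C, Algebra.TensorProduct.includeRight_apply]

theorem etale_trC [Algebra.Etale A A'] (s : Fin n → A') : (trC (A := A) C n s).toRingHom.Etale := by
  have h : (prC A C A' n).toRingHom.Etale := etale_mapMvPolynomial (R := C) (R' := C ⊗[A] A') n
  exact RingHom.Etale.respectsIso.1 _ (shift n fun i => Algebra.TensorProduct.includeRight (s i)).toRingEquiv h

theorem etale_trA [Algebra.Etale A A'] (s : Fin n → A') : (trA A n s).toRingHom.Etale :=
  RingHom.Etale.respectsIso.1 _ (shift n s).toRingEquiv (etale_mapMvPolynomial (R := A) (R' := A') n)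

end Translate

variable {S : Scheme.{u}} {P : MorphismProperty (Sp S)} (hP : Hyp P)
include hP

/-- The property on a translate of the open. -/
theorem translate {A C A' : Type u} [CommRing A] [CommRing C] [CommRing A'] [Algebra A C] [Algebra A A']
    [Algebra.Etale A A'] (sV : Spec (.of A) ⟶ S) (n : ℕ) (s : Fin n → A')
    (O : (ovr sV (MvPolynomial (Fin n) C)).left.Opens)
    (hPO : P ((yon S).map (Over.homMk O.ι rfl : Over.mk (O.ι ≫ (ovr sV (MvPolynomial (Fin n) C)).hom) ⟶
      ovr sV (MvPolynomial (Fin n) C)) ≫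
        (yon S).map (hom sV (MvPolynomial.mapAlgHom (Algebra.ofId A C))))) :
    ∃ (T : Over S) (j : T ⟶ ovr sV (MvPolynomial (Fin n) C)), IsEtaleMor ((yon S).map j) ∧
      (∀ η : PrimeSpectrum (MvPolynomial (Fin n) (C ⊗[A] A')), (hom sV (prC A C A' n)).left η ∈ O →
        (hom sV (trC C n s)).left η ∈ Set.range j.left) ∧
      P ((yon S).map j ≫ (yon S).map (hom sV (MvPolynomial.mapAlgHom (Algebra.ofId A C)))) := by
  let qm : MvPolynomial (Fin n) A →ₐ[A] MvPolynomial (Fin n) C := MvPolynomial.mapAlgHom (Algebra.ofId A C)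
  let prA : MvPolynomial (Fin n) A →ₐ[A] MvPolynomial (Fin n) A' := MvPolynomial.mapAlgHom (Algebra.ofId A A')
  let pr := prC A C A' n
  have hprA : Etale (hom sV prA).left := (HasRingHomProperty.Spec_iff (P := @Etale)).2
    (etale_mapMvPolynomial (R := A) (R' := A') n)
  have ht : Etale (hom sV (trC C n s)).left := (HasRingHomProperty.Spec_iff (P := @Etale)).2 (etale_trC n s)
  have htA : Etale (hom sV (trA A n s)).left := (HasRingHomProperty.Spec_iff (P := @Etale)).2 (etale_trA n s)
  let O' := (hom sV pr).left ⁻¹ᵁ O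
  let OO : Over S := Over.mk (O.ι ≫ (ovr sV (MvPolynomial (Fin n) C)).hom)
  let T : Over S := Over.mk (O'.ι ≫ (ovr sV (MvPolynomial (Fin n) (C ⊗[A] A'))).hom)
  let iO : OO ⟶ ovr sV (MvPolynomial (Fin n) C) := Over.homMk O.ι rfl
  let iT : T ⟶ ovr sV (MvPolynomial (Fin n) (C ⊗[A] A')) := Over.homMk O'.ι rfl
  let ρ : T ⟶ OO := Over.homMk ((hom sV pr).left ∣_ O) (by
    show _ ≫ O.ι ≫ _ = O'.ι ≫ _
    rw [morphismRestrict_ι_assoc]
    exact congrArg (O'.ι ≫ ·) (Over.w (hom sV pr)))
  refine ⟨T, iT ≫ hom sV (trC C n s), ?_, fun η hη => ⟨⟨η, hη⟩, rfl⟩, ?_⟩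
  · have : Etale (iT ≫ hom sV (trC C n s)).left := inferInstanceAs (Etale (O'.ι ≫ (hom sV (trC C n s)).left))
    exact isEtaleMor_yon _
  · have e : hom sV (trC C n s) ≫ hom sV qm = hom sV (qA' A C A' n) ≫ hom sV (trA A n s) :=
      Over.OverMorphism.ext (by
      show Spec.map _ ≫ Spec.map _ = Spec.map _ ≫ Spec.map _
      rw [← Spec.map_comp, ← Spec.map_comp, ← CommRingCat.ofHom_comp, ← CommRingCat.ofHom_comp]
      exact congrArg (fun f => Spec.map (CommRingCat.ofHom (AlgHom.toRingHom f))) (trC_comm n s))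
    have sqM : IsPullback (hom sV pr) (hom sV (qA' A C A' n)) (hom sV qm) (hom sV prA) := by
      have h := isPullback_SpecMap_of_isPushout _ _ _ _ (isPushout_mapAlgHom (A := A) (C := C) (A' := A') n)
      exact IsPullback.of_map (Over.forget S) (Over.OverMorphism.ext h.w) h
    have sqO : IsPullback ρ iT iO (hom sV pr) :=
      IsPullback.of_map (Over.forget S) (Over.OverMorphism.ext (morphismRestrict_ι _ _))
        (isPullback_morphismRestrict (hom sV pr).left O)
    have sqT := (sqO.paste_vert sqM).map (yon S)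
    rw [Functor.map_comp, Functor.map_comp] at sqT
    rw [← Functor.map_comp, Category.assoc, e, ← Category.assoc, Functor.map_comp, Functor.map_comp]
    exact postcomp_etale hP (IsAlgSpace.yon_obj _) (IsAlgSpace.yon_obj _) (IsAlgSpace.yon_obj _) _ _
      (isEtaleMor_yon (hom sV (trA A n s)))
      (hP.baseChange_etale (IsAlgSpace.yon_obj _) (IsAlgSpace.yon_obj _) (IsAlgSpace.yon_obj _)
        (IsAlgSpace.yon_obj _) sqT (isEtaleMor_yon (hom sV prA)) hPO)

theorem core {A C : Type u} [CommRing A] [CommRing C] [Algebra A C] (sV : Spec (.of A) ⟶ S) (n : ℕ)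
    (O : (ovr sV (MvPolynomial (Fin n) C)).left.Opens)
    (hsurj : ∀ p : PrimeSpectrum C, ∃ η : PrimeSpectrum (MvPolynomial (Fin n) C),
      η ∈ O ∧ η.asIdeal.comap MvPolynomial.C = p.asIdeal)
    (hPO : P ((yon S).map (Over.homMk O.ι rfl : Over.mk (O.ι ≫ (ovr sV (MvPolynomial (Fin n) C)).hom) ⟶
      ovr sV (MvPolynomial (Fin n) C)) ≫
        (yon S).map (hom sV (MvPolynomial.mapAlgHom (Algebra.ofId A C))))) :
    P ((yon S).map (str sV C)) := by
  classical
  let AX := MvPolynomial (Fin n) A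
  let CX := MvPolynomial (Fin n) C
  let qm : AX →ₐ[A] CX := MvPolynomial.mapAlgHom (Algebra.ofId A C)
  have hqm : qm.toRingHom = algebraMap AX CX := rfl
  -- descend from affine space
  haveI : Algebra.Smooth A AX := ⟨inferInstance, inferInstance⟩
  have sm : Smooth (str sV AX).left := by
    show Smooth (Spec.map _)
    rw [HasRingHomProperty.Spec_iff (P := @Smooth)]
    exact RingHom.smooth_algebraMap.2 inferInstance
  refine hP.of_base (ι := PUnit.{u + 1}) (IsAlgSpace.yon_obj _) (IsAlgSpace.yon_obj _) _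
    (fun _ => (yon S).obj (ovr sV AX)) (fun _ => (yon S).map (str sV AX)) (fun _ => IsAlgSpace.yon_obj _)
    (fun _ => smooth_yon (str sV AX)) (fun y => ?_) fun _ => ?_
  · obtain ⟨y, rfl⟩ := (Points.schemeHomeo _).surjective y
    refine ⟨⟨⟩, (mem_range_map_yon (str sV AX)).2 ⟨(hom sV (MvPolynomial.aeval fun _ => (0 : A))).left
      (PrimeSpectrum.comap (algebraMap A A) y), ?_⟩⟩
    have e : (algebraMap A A) = RingHom.id A := rfl
    refine PrimeSpectrum.ext ?_
    show Ideal.comap _ (Ideal.comap _ (Ideal.comap _ _)) = _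
    refine Ideal.ext fun a => ?_
    show (MvPolynomial.aeval fun _ => (0 : A)) (algebraMap A AX a) ∈ y.asIdeal ↔ a ∈ y.asIdeal
    rw [AlgHom.commutes, Algebra.algebraMap_self_apply]
  have sqS : IsPullback (Spec.map (CommRingCat.ofHom (algebraMap C CX))) (Spec.map (CommRingCat.ofHom (algebraMap AX CX)))
      (Spec.map (CommRingCat.ofHom (algebraMap A C))) (Spec.map (CommRingCat.ofHom (algebraMap A AX))) :=
    isPullback_SpecMap_of_isPushout _ _ _ _ (CommRingCat.isPushout_of_isPushout A C AX CX)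
  have sq₀ : IsPullback (hom sV (IsScalarTower.toAlgHom A C CX)) (hom sV qm) (str sV C) (str sV AX) :=
    IsPullback.of_map (Over.forget S) (by rw [hom_str, hom_str]) sqS
  have sq := sq₀.map (yon S)
  rw [← sq.isoPullback_inv_snd]
  refine hP.precomp (AlgSp.isAlgSpace_pullback (IsAlgSpace.yon_obj _) (IsAlgSpace.yon_obj _) (IsAlgSpace.yon_obj _) _ _)
    (IsAlgSpace.yon_obj _) (IsAlgSpace.yon_obj _) _ _ (AlgSpCov.openClass_etale.of_openImm
      (AlgSp.isAlgSpace_pullback (IsAlgSpace.yon_obj _) (IsAlgSpace.yon_obj _) (IsAlgSpace.yon_obj _) _ _)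
      (IsAlgSpace.yon_obj _) _ (AlgSpB.repWith_of_isIso (P := @IsOpenImmersion) sq.isoPullback.inv)) ?_
  -- translated opens through every point
  suffices key : ∀ ξ : PrimeSpectrum CX, ∃ (T : Over S) (j : T ⟶ ovr sV CX), IsEtaleMor ((yon S).map j) ∧
      ξ ∈ Set.range j.left ∧ P ((yon S).map j ≫ (yon S).map (hom sV qm)) by
    choose T j hj hξ hT using key
    refine hP.of_source (IsAlgSpace.yon_obj _) (IsAlgSpace.yon_obj _) _ (fun ξ => (yon S).obj (T ξ))
      (fun ξ => (yon S).map (j ξ)) (fun ξ => IsAlgSpace.yon_obj _) hj (fun x => ?_) hT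
    obtain ⟨x, rfl⟩ := (Points.schemeHomeo _).surjective x
    exact ⟨x, (mem_range_map_yon (j x)).2 (hξ x)⟩
  intro ξ
  let K := AlgebraicClosure (FractionRing (CX ⧸ ξ.asIdeal))
  let ev : CX →ₐ[A] K := ((IsScalarTower.toAlgHom A (CX ⧸ ξ.asIdeal) K)).comp (Ideal.Quotient.mkₐ A ξ.asIdeal)
  have hev : RingHom.ker ev.toRingHom = ξ.asIdeal := by
    ext x
    rw [RingHom.mem_ker]
    show algebraMap (CX ⧸ ξ.asIdeal) K (Ideal.Quotient.mk _ x) = 0 ↔ _
    rw [IsScalarTower.algebraMap_apply (CX ⧸ ξ.asIdeal) (FractionRing (CX ⧸ ξ.asIdeal)) K,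
      FaithfulSMul.algebraMap_eq_zero_iff, FaithfulSMul.algebraMap_eq_zero_iff, Ideal.Quotient.eq_zero_iff_mem]
  let χ : C →ₐ[A] K := ev.comp (IsScalarTower.toAlgHom A C CX)
  let a : Fin n → K := fun i => ev (MvPolynomial.X i)
  let p : PrimeSpectrum C := ⟨RingHom.ker χ.toRingHom, RingHom.ker_isPrime _⟩
  obtain ⟨η₀, hη₀, hη₀p⟩ := hsurj p
  obtain ⟨_, ⟨G, rfl⟩, hG, hGO⟩ := PrimeSpectrum.isTopologicalBasis_basic_opens.exists_subset_of_mem_open hη₀ O.2
  let Gχ : MvPolynomial (Fin n) K := MvPolynomial.map χ.toRingHom G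
  have hGχ : Gχ ≠ 0 := fun h => hG (by
    rw [← MvPolynomial.support_sum_monomial_coeff G]
    refine Ideal.sum_mem _ fun d _ => ?_
    rw [← mul_one (MvPolynomial.coeff d G), ← smul_eq_mul, ← MvPolynomial.smul_monomial, MvPolynomial.smul_eq_C_mul]
    refine Ideal.mul_mem_right _ _ ?_
    have : MvPolynomial.coeff d G ∈ p.asIdeal := by
      show χ.toRingHom _ = 0
      rw [← MvPolynomial.coeff_map]
      show MvPolynomial.coeff d Gχ = 0
      rw [h, MvPolynomial.coeff_zero]
    rw [← hη₀p] at this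
    exact this)
  let H := MvPolynomial.aeval (fun i => MvPolynomial.C (a i) - MvPolynomial.X i) Gχ
  obtain ⟨ℓ, hℓ, hℓp⟩ := Nat.exists_infinite_primes (max H.totalDegree (ringChar K) + 1)
  have hℓK : (ℓ : K) ≠ 0 := fun h => by
    have hd := (ringChar.spec K ℓ).1 h
    rcases (Nat.dvd_prime hℓp).1 hd with h1 | h1
    · exact CharP.ringChar_ne_one h1
    · omega
  haveI : NeZero (ℓ : K) := ⟨hℓK⟩
  obtain ⟨ζ, hζ⟩ := HasEnoughRootsOfUnity.exists_primitiveRoot K ℓ
  obtain ⟨jv, hjv⟩ := exists_good a Gχ hGχ hζ (show H.totalDegree < ℓ by omega)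
  -- the etale algebra
  let SE : StandardEtalePair A := ⟨Polynomial.X ^ ℓ - 1, Polynomial.monic_X_pow_sub_C 1 hℓp.ne_zero,
    Polynomial.C (ℓ : A), ⟨Polynomial.X, -Polynomial.C (ℓ : A), 1, by
      have : (Polynomial.X : Polynomial A) ^ (ℓ - 1) * Polynomial.X = Polynomial.X ^ ℓ := by
        rw [← pow_succ, Nat.sub_add_cancel hℓp.one_le]
      rw [Polynomial.derivative_sub, Polynomial.derivative_X_pow, Polynomial.derivative_one, sub_zero, mul_assoc,
        this, pow_one]
      ring⟩⟩
  have hmap : SE.HasMap ζ := ⟨by simp [SE, hζ.pow_eq_one], by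
    show IsUnit (Polynomial.aeval ζ (Polynomial.C (ℓ : A)))
    rw [Polynomial.aeval_C, map_natCast]
    exact isUnit_iff_ne_zero.2 hℓK⟩
  let A' := SE.Ring
  let χA : A' →ₐ[A] K := SE.lift ζ hmap
  have hχA : χA SE.X = ζ := SE.lift_X ζ hmap
  let s : Fin n → A' := fun i => SE.X ^ jv i
  obtain ⟨T, j, hj, hjr, hjP⟩ := translate hP sV n s O hPO
  refine ⟨T, j, hj, ?_, hjP⟩
  let θ : MvPolynomial (Fin n) (C ⊗[A] A') →+* K := MvPolynomial.eval₂Hom
    (Algebra.TensorProduct.lift χ χA fun _ _ => Commute.all _ _).toRingHom fun i => a i - ζ ^ jv i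
  let η : PrimeSpectrum (MvPolynomial (Fin n) (C ⊗[A] A')) := ⟨RingHom.ker θ, RingHom.ker_isPrime θ⟩
  have e1 : θ.comp (prC A C A' n).toRingHom = MvPolynomial.eval₂Hom χ.toRingHom (fun i => a i - ζ ^ jv i) := by
    refine MvPolynomial.ringHom_ext (fun c => ?_) fun i => ?_
    · show θ (prC A C A' n (MvPolynomial.C c)) = _
      rw [mapAlgHom_C]
      simp [θ]
    · show θ (prC A C A' n (MvPolynomial.X i)) = _
      rw [mapAlgHom_X]
      simp [θ]
  have e2 : θ.comp (trC C n s).toRingHom = ev.toRingHom := by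
    refine MvPolynomial.ringHom_ext (fun c => ?_) fun i => ?_
    · show θ (trC C n s (MvPolynomial.C c)) = ev (MvPolynomial.C c)
      rw [trC_C]
      simp [θ]
      rfl
    · show θ (trC C n s (MvPolynomial.X i)) = ev (MvPolynomial.X i)
      rw [trC_X]
      simp [θ, s, hχA]
      rfl
  have hη : (hom sV (prC A C A' n)).left η ∈ O := by
    refine hGO ?_
    show (prC A C A' n).toRingHom G ∉ RingHom.ker θ
    rw [RingHom.mem_ker, ← RingHom.comp_apply, e1]
    show MvPolynomial.eval₂ _ _ _ ≠ 0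
    rw [MvPolynomial.eval₂_eq_eval_map]
    exact hjv
  have hξ : (hom sV (trC C n s)).left η = ξ := PrimeSpectrum.ext (by
    show Ideal.comap (trC C n s).toRingHom (RingHom.ker θ) = ξ.asIdeal
    rw [RingHom.comap_ker, e2, hev])
  exact hξ ▸ hjr η hη

end Groth.Agent.ESLocal
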