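import Groth.Agent.ESLocal.Basic
import Groth.Agent.AlgSpB.Bootstrap
import Groth.Prelude.Def_AlgSpEt
import Mathlib.RingTheory.Unramified.LocalStructure
import Mathlib.AlgebraicGeometry.Morphisms.Etale

/-!
# Stability under etale postcomposition
-/

universe u

open CategoryTheory CategoryTheory.Limits AlgebraicGeometry

set_option autoImplicit false
set_option linter.style.haveILetI false
set_option backward.isDefEq.respectTransparency false
set_option backward.isDefEq.respectTransparency.types false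

namespace Groth.Agent.ESLocal

open _root_.AlgSp
open Groth.Agent

variable {S : Scheme.{u}}

/-- At most `n` lifts of every field valued point. -/
def Bound {Y Z : Scheme.{u}} (n : ℕ) (g : Y ⟶ Z) : Prop :=
  ∀ (K : Type u) [Field K] (z : Spec (.of K) ⟶ Z) (s : Fin (n + 1) → (Spec (.of K) ⟶ Y)),
    (∀ i, s i ≫ g = z) → ¬ Function.Injective s

theorem bound_cancel {Y Z Z' : Scheme.{u}} {n : ℕ} (g : Y ⟶ Z) (ι : Z ⟶ Z') (h : Bound n (g ≫ ι)) : Bound n g :=
  fun K _ z s hs => h K (z ≫ ι) s fun i => by rw [← Category.assoc, hs]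

theorem bound_comp_mono {Y Z Z' : Scheme.{u}} {n : ℕ} (g : Y ⟶ Z) (ι : Z ⟶ Z') [Mono ι] (h : Bound n g) :
    Bound n (g ≫ ι) := fun K _ z s hs => h K (s 0 ≫ g) s fun i => (cancel_mono ι).1 (by simp [hs])

/-- A standard etale algebra has bounded fibres. -/
theorem bound_of_isStandardEtale {A B : Type u} [CommRing A] [CommRing B] [Algebra A B]
    [Algebra.IsStandardEtale A B] : ∃ n, Bound n (Spec.map (CommRingCat.ofHom (algebraMap A B))) := by
  classical
  obtain ⟨E⟩ := Algebra.IsStandardEtale.nonempty_standardEtalePresentation (R := A) (S := B)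
  refine ⟨E.P.f.natDegree, fun K _ z s hs hinj => ?_⟩
  obtain ⟨χ, rfl⟩ := Spec.map_surjective z
  letI : Algebra A K := χ.hom.toAlgebra
  have hg : ∀ i, ∃ θ : B →ₐ[A] K, Spec.map (CommRingCat.ofHom θ.toRingHom) = s i := fun i => by
    obtain ⟨θ, hθ⟩ := Spec.map_surjective (s i)
    have := hs i
    rw [← hθ, ← Spec.map_comp] at this
    have e := congrArg CommRingCat.Hom.hom (Spec.map_injective this)
    exact ⟨{ θ.hom with commutes' := RingHom.congr_fun e }, hθ⟩
  choose θ hθ using hg
  let g : Fin (E.P.f.natDegree + 1) → (E.P.Ring →ₐ[A] K) := fun i => (θ i).comp E.equivRing.symm.toAlgHom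
  let r : Fin (E.P.f.natDegree + 1) → K := fun i => g i E.P.X
  have hr : Function.Injective r := fun i j e => hinj (by
    have e' : g i = g j := E.P.hom_ext e
    have e'' : θ i = θ j := AlgHom.ext fun b => by
      have := AlgHom.congr_fun e' (E.equivRing b)
      simpa [g] using this
    rw [← hθ, ← hθ, e''])
  have hroot : ∀ i, r i ∈ ((E.P.f.map (algebraMap A K)).roots.toFinset) := fun i => by
    rw [Multiset.mem_toFinset, Polynomial.mem_roots (E.P.monic_f.map _).ne_zero, Polynomial.IsRoot.def,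
      Polynomial.eval_map_algebraMap, Polynomial.aeval_algHom_apply, E.P.hasMap_X.1, map_zero]
  have h1 : (Finset.univ.image r).card ≤ (E.P.f.map (algebraMap A K)).roots.toFinset.card :=
    Finset.card_le_card (fun x hx => by obtain ⟨i, -, rfl⟩ := Finset.mem_image.1 hx; exact hroot i)
  rw [Finset.card_image_of_injective _ hr, Finset.card_univ, Fintype.card_fin] at h1
  have h2 := (Multiset.toFinset_card_le _).trans (Polynomial.card_roots' (E.P.f.map (algebraMap A K)))
  rw [E.P.monic_f.natDegree_map (algebraMap A K)] at h2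
  omega

variable {P : MorphismProperty (Sp S)} (hP : Hyp P)
include hP

theorem postcomp_etale_bound : ∀ (n : ℕ) {Y Z : Over S} (g : Y ⟶ Z) [Etale g.left] [IsSeparated g.left],
    Bound n g.left → ∀ {X : Sp S}, IsAlgSpace X → ∀ f : X ⟶ (yon S).obj Y, P f → P (f ≫ (yon S).map g) := by
  intro n
  induction n with
  | zero =>
    intro Y Z g _ _ hb X hX f _
    have hY : IsEmpty ↥Y.left := ⟨fun y => hb ↥(Y.left.residueField y) (Y.left.fromSpecResidueField y ≫ g.left)
      (fun _ => Y.left.fromSpecResidueField y) (fun _ => rfl) fun i j _ => Subsingleton.elim (α := Fin 1) i j⟩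
    refine hP.of_source (ι := PEmpty.{u + 1}) hX (IsAlgSpace.yon_obj Z) _ PEmpty.elim (fun i => i.elim)
      (fun i => i.elim) (fun i => i.elim) (fun x => ?_) fun i => i.elim
    obtain ⟨y, -⟩ := (Points.schemeHomeo Y).surjective (Points.map f x)
    exact hY.elim y
  | succ n ih =>
    intro Y Z g _ _ hb X hX f hf
    let O : Z.left.Opens := ⟨Set.range g.left, g.left.isOpenMap.isOpen_range⟩
    let Z₀ : Over S := Over.mk (O.ι ≫ Z.hom)
    let ι₀ : Z₀ ⟶ Z := Over.homMk O.ι rfl
    let g₀ : Y ⟶ Z₀ := Over.homMk (IsOpenImmersion.lift O.ι g.left ((Scheme.Opens.range_ι O).symm ▸ le_refl _))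
      (by show _ ≫ O.ι ≫ Z.hom = _; rw [IsOpenImmersion.lift_fac_assoc]; exact Over.w g)
    have hg₀ : g₀ ≫ ι₀ = g := Over.OverMorphism.ext (IsOpenImmersion.lift_fac _ _ _)
    have hg₀' : g₀.left ≫ O.ι = g.left := IsOpenImmersion.lift_fac _ _ _
    have : Etale g₀.left := by
      have : Etale (g₀.left ≫ O.ι) := hg₀'.symm ▸ inferInstance
      exact MorphismProperty.of_postcomp (W := @Etale) (W' := @Etale) g₀.left O.ι (inferInstance : Etale O.ι) this
    have : IsSeparated g₀.left := by
      have : IsSeparated (g₀.left ≫ O.ι) := hg₀'.symm ▸ inferInstance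
      exact IsSeparated.of_comp g₀.left O.ι
    have hb₀ : Bound (n + 1) g₀.left := bound_cancel g₀.left O.ι (by rw [hg₀']; exact hb)
    have hsurj : ∀ z : ↥Z₀.left, z ∈ Set.range g₀.left := fun z => by
      obtain ⟨y, hy⟩ := z.2
      refine ⟨y, O.ι.isOpenEmbedding.injective ?_⟩
      show (g₀.left ≫ O.ι) y = _
      rw [hg₀']
      exact hy
    rw [← hg₀, Functor.map_comp, ← Category.assoc]
    refine hP.postOpen hX (IsAlgSpace.yon_obj _) (IsAlgSpace.yon_obj _) _ _ ?_
      ((repWith_yon_map_iff _ _).2 (inferInstanceAs (IsOpenImmersion O.ι)))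
    -- the self product
    let R : Over S := Over.mk (pullback.fst g₀.left g₀.left ≫ Y.hom)
    let r₁ : R ⟶ Y := Over.homMk (pullback.fst g₀.left g₀.left) rfl
    let r₂ : R ⟶ Y := Over.homMk (pullback.snd g₀.left g₀.left) (by
      show _ ≫ Y.hom = pullback.fst g₀.left g₀.left ≫ Y.hom
      rw [← Over.w g₀, pullback.condition_assoc])
    have eR : r₁ ≫ g₀ = r₂ ≫ g₀ := Over.OverMorphism.ext pullback.condition
    have sqR₀ : IsPullback r₁ r₂ g₀ g₀ :=
      IsPullback.of_map (Over.forget S) eR (IsPullback.of_hasPullback g₀.left g₀.left)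
    have sqR : IsPullback ((yon S).map r₁) ((yon S).map r₂) ((yon S).map g₀) ((yon S).map g₀) := sqR₀.map (yon S)
    have hr₁ : Etale r₁.left := inferInstanceAs (Etale (pullback.fst g₀.left g₀.left))
    have : Etale r₂.left := inferInstanceAs (Etale (pullback.snd g₀.left g₀.left))
    let fg := f ≫ (yon S).map g₀
    let X₂ := pullback fg ((yon S).map g₀)
    let ρ : X₂ ⟶ (yon S).obj R := sqR.lift (pullback.fst fg ((yon S).map g₀) ≫ f) (pullback.snd fg ((yon S).map g₀))
      (by rw [Category.assoc]; exact pullback.condition)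
    have sqρ : IsPullback (pullback.fst fg ((yon S).map g₀)) ρ f ((yon S).map r₁) := by
      refine IsPullback.of_bot ?_ (sqR.lift_fst _ _ _).symm sqR
      rw [sqR.lift_snd]
      exact IsPullback.of_hasPullback fg ((yon S).map g₀)
    have hX₂ : IsAlgSpace X₂ :=
      AlgSp.isAlgSpace_pullback (IsAlgSpace.yon_obj _) hX (IsAlgSpace.yon_obj _) _ _
    have hρ : P ρ := hP.baseChange_etale hX (IsAlgSpace.yon_obj _) hX₂ (IsAlgSpace.yon_obj _) sqρ (isEtaleMor_yon r₁) hf
    let d : Y ⟶ R := Over.homMk (pullback.diagonal g₀.left) (by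
      show _ ≫ pullback.fst g₀.left g₀.left ≫ Y.hom = _
      rw [pullback.diagonal_fst_assoc])
    have hd₁ : d ≫ r₁ = 𝟙 Y := Over.OverMorphism.ext (pullback.diagonal_fst g₀.left)
    have hd₂ : d ≫ r₂ = 𝟙 Y := Over.OverMorphism.ext (pullback.diagonal_snd g₀.left)
    have : IsOpenImmersion d.left := inferInstanceAs (IsOpenImmersion (pullback.diagonal g₀.left))
    let O' : R.left.Opens := ⟨(Set.range (pullback.diagonal g₀.left))ᶜ,
      (pullback.diagonal g₀.left).isClosedMap.isClosed_range.isOpen_compl⟩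
    let R' : Over S := Over.mk (O'.ι ≫ R.hom)
    let j : R' ⟶ R := Over.homMk O'.ι rfl
    have : Etale j.left := inferInstanceAs (Etale O'.ι)
    have : IsSeparated (j ≫ r₂).left := inferInstanceAs (IsSeparated (O'.ι ≫ pullback.snd g₀.left g₀.left))
    have : Etale (j ≫ r₂).left := inferInstanceAs (Etale (O'.ι ≫ pullback.snd g₀.left g₀.left))
    have hb' : Bound n (j ≫ r₂).left := by
      intro K _ y s hs hinj
      let t : Fin (n + 2) → (Spec (.of K) ⟶ Y.left) := Fin.cons y fun i => s i ≫ O'.ι ≫ pullback.fst g₀.left g₀.left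
      have h2 : ∀ i, s i ≫ O'.ι ≫ pullback.snd g₀.left g₀.left = y := hs
      refine hb₀ K (y ≫ g₀.left) t (fun i => ?_) ?_
      · refine Fin.cases rfl (fun i => ?_) i
        rw [show t i.succ = s i ≫ O'.ι ≫ pullback.fst g₀.left g₀.left from Fin.cons_succ _ _ _, Category.assoc,
          Category.assoc, pullback.condition, ← h2 i, Category.assoc, Category.assoc]
      · refine Fin.cons_injective_iff.2 ⟨?_, fun i i' e => hinj ?_⟩
        · rintro ⟨i, hi⟩
          have e : s i ≫ O'.ι = y ≫ pullback.diagonal g₀.left := pullback.hom_ext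
            (by simpa using hi) (by simpa using h2 i)
          let o : ↥(Spec (CommRingCat.of K)) := (⊥ : PrimeSpectrum K)
          refine (s i o).2 ⟨y o, ?_⟩
          show (y ≫ pullback.diagonal g₀.left) o = (s i ≫ O'.ι) o
          rw [e]
          rfl
        · rw [← cancel_mono O'.ι]
          refine pullback.hom_ext (by simpa using e) ?_
          rw [Category.assoc, Category.assoc, h2, h2]
    have hsnd : P (pullback.snd fg ((yon S).map g₀)) := by
      have hρr : ρ ≫ (yon S).map r₂ = pullback.snd fg ((yon S).map g₀) := sqR.lift_snd _ _ _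
      rw [← hρr]
      refine hP.of_middle (ι := ULift.{u} Bool) hX₂ (IsAlgSpace.yon_obj _) (IsAlgSpace.yon_obj _) ρ _
        (fun b => (yon S).obj (cond b.down R' Y))
        (fun b => match b with | ⟨true⟩ => (yon S).map j | ⟨false⟩ => (yon S).map d)
        (fun b => IsAlgSpace.yon_obj _) (fun ⟨b⟩ => by cases b; exacts [isEtaleMor_yon d, isEtaleMor_yon j])
        (fun y => ?_) hρ (fun ⟨b⟩ X' f' hX' hf' => ?_)
      · obtain ⟨y, rfl⟩ := (Points.schemeHomeo R).surjective y
        by_cases hy : y ∈ Set.range (pullback.diagonal g₀.left)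
        · exact ⟨⟨false⟩, (mem_range_map_yon d).2 hy⟩
        · refine ⟨⟨true⟩, (mem_range_map_yon j).2 ?_⟩
          show y ∈ Set.range O'.ι
          rw [Scheme.Opens.range_ι]
          exact hy
      · cases b
        · show P (f' ≫ (yon S).map d ≫ (yon S).map r₂)
          rw [← Functor.map_comp, hd₂]
          erw [(yon S).map_id, Category.comp_id]
          exact hf'
        · show P (f' ≫ (yon S).map j ≫ (yon S).map r₂)
          rw [← Functor.map_comp]
          exact ih (j ≫ r₂) hb' hX' f' hf'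
    refine hP.of_base (ι := PUnit.{u + 1}) hX (IsAlgSpace.yon_obj _) _ (fun _ => (yon S).obj Y)
      (fun _ => (yon S).map g₀) (fun _ => IsAlgSpace.yon_obj _) (fun _ => AlgSpCov.smooth_of_etale (isEtaleMor_yon g₀))
      (fun z => ?_) fun _ => hsnd
    obtain ⟨z, rfl⟩ := (Points.schemeHomeo Z₀).surjective z
    exact ⟨⟨⟩, (mem_range_map_yon g₀).2 (hsurj z)⟩

theorem postcomp_etale_affine {U Z : Over S} [IsAffine U.left] [IsAffine Z.left] (h : U ⟶ Z) [Etale h.left]
    {X : Sp S} (hX : IsAlgSpace X) (f : X ⟶ (yon S).obj U) (hf : P f) : P (f ≫ (yon S).map h) := by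
  -- standard etale opens
  have key : ∀ u : ↥U.left, ∃ (W : U.left.Opens) (n : ℕ), u ∈ W ∧ IsSeparated (W.ι ≫ h.left) ∧
      Bound n (W.ι ≫ h.left) := by
    intro u
    let φ := h.left.appTop
    have hφ : φ.hom.Etale := (HasRingHomProperty.iff_of_isAffine (P := @Etale)).1 inferInstance
    letI := φ.hom.toAlgebra
    haveI : Algebra.Etale Γ(Z.left, ⊤) Γ(U.left, ⊤) := hφ
    let q : PrimeSpectrum Γ(U.left, ⊤) := U.left.isoSpec.hom u
    obtain ⟨c, hc, hstd⟩ := Algebra.IsEtaleAt.exists_isStandardEtale (R := Γ(Z.left, ⊤)) q.asIdeal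
    obtain ⟨n, hn⟩ := bound_of_isStandardEtale (A := Γ(Z.left, ⊤)) (B := Localization.Away c)
    let k : Spec (.of (Localization.Away c)) ⟶ U.left :=
      Spec.map (CommRingCat.ofHom (algebraMap Γ(U.left, ⊤) _)) ≫ U.left.isoSpec.inv
    have : IsOpenImmersion (Spec.map (CommRingCat.ofHom (algebraMap Γ(U.left, ⊤) (Localization.Away c)))) :=
      IsOpenImmersion.of_isLocalization c
    have hk : k ≫ h.left =
        Spec.map (CommRingCat.ofHom (algebraMap Γ(Z.left, ⊤) (Localization.Away c))) ≫ Z.left.isoSpec.inv := by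
      simp only [k, Category.assoc, ← Scheme.isoSpec_inv_naturality]
      rw [← Category.assoc, ← Spec.map_comp]
      rfl
    let e := k.isoOpensRange
    have he : k.opensRange.ι ≫ h.left = e.inv ≫ (k ≫ h.left) := by
      rw [← Category.assoc, Scheme.Hom.isoOpensRange_inv_comp]
    refine ⟨k.opensRange, n, ?_, ?_, ?_⟩
    · obtain ⟨w, hw⟩ : q ∈ Set.range (Spec.map (CommRingCat.ofHom (algebraMap Γ(U.left, ⊤) (Localization.Away c)))) :=
        (PrimeSpectrum.localization_away_comap_range _ c).symm.le hc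
      refine ⟨w, ?_⟩
      show U.left.isoSpec.inv (Spec.map _ w) = u
      exact (congrArg U.left.isoSpec.inv hw).trans (Scheme.hom_inv_apply U.left.isoSpec u)
    · rw [he, hk]
      infer_instance
    · have h0 : Bound n (k ≫ h.left) := by rw [hk]; exact bound_comp_mono _ _ hn
      rw [he]
      exact fun K _ z s hs hinj => h0 K z (fun i => s i ≫ e.inv) (fun i => by rw [Category.assoc]; exact hs i)
        fun i i' ee => hinj ((cancel_mono e.inv).1 ee)
  choose W n hu hsep hb using key
  let V : ↥U.left → Over S := fun u => Over.mk ((W u).ι ≫ U.hom)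
  let a : ∀ u, V u ⟶ U := fun u => Over.homMk (W u).ι rfl
  refine hP.of_middle hX (IsAlgSpace.yon_obj _) (IsAlgSpace.yon_obj _) f _ (fun u => (yon S).obj (V u))
    (fun u => (yon S).map (a u)) (fun u => IsAlgSpace.yon_obj _)
    (fun u => have : Etale (a u).left := inferInstanceAs (Etale (W u).ι); isEtaleMor_yon (a u))
    (fun y => ?_) hf fun u X' f' hX' hf' => ?_
  · obtain ⟨y, rfl⟩ := (Points.schemeHomeo U).surjective y
    refine ⟨y, (mem_range_map_yon (a y)).2 ?_⟩
    show y ∈ Set.range (W y).ι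
    rw [Scheme.Opens.range_ι]
    exact hu y
  · rw [← Functor.map_comp]
    have : Etale (a u ≫ h).left := inferInstanceAs (Etale ((W u).ι ≫ h.left))
    have : IsSeparated (a u ≫ h).left := hsep u
    exact postcomp_etale_bound hP (n u) (a u ≫ h) (hb u) hX' f' hf'

/-- Stability under postcomposition with etale morphisms. -/
theorem postcomp_etale {X Y Z : Sp S} (hX : IsAlgSpace X) (hY : IsAlgSpace Y) (hZ : IsAlgSpace Z) (f : X ⟶ Y)
    (g : Y ⟶ Z) (hg : IsEtaleMor g) (hf : P f) : P (f ≫ g) := by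
  obtain ⟨ι, T, b, hTa, hb, hbs⟩ := exists_affine_cover hZ
  refine hP.of_base hX hZ _ (fun i => (yon S).obj (T i)) b (fun i => IsAlgSpace.yon_obj _)
    (fun i => AlgSpCov.smooth_of_etale (_root_.AlgSp.isEtaleMor_of_repWith _ (hb i))) hbs fun i => ?_
  have hbe : IsEtaleMor (b i) := _root_.AlgSp.isEtaleMor_of_repWith _ (hb i)
  let Yi := pullback g (b i)
  have hYi : IsAlgSpace Yi := AlgSp.isAlgSpace_pullback hZ hY (IsAlgSpace.yon_obj _) _ _
  let Xi := pullback f (pullback.fst g (b i))
  have hXi : IsAlgSpace Xi := AlgSp.isAlgSpace_pullback hY hX hYi _ _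
  have hfi : P (pullback.snd f (pullback.fst g (b i))) :=
    hP.baseChange_etale hX hY hXi hYi (IsPullback.of_hasPullback _ _)
      (AlgSpCov.openClass_etale.baseChange hY hZ hYi (IsAlgSpace.yon_obj _) _ _ _ _ (IsPullback.of_hasPullback _ _) hbe) hf
  have hgi : IsEtaleMor (pullback.snd g (b i)) :=
    AlgSpCov.openClass_etale.baseChange (IsAlgSpace.yon_obj _) hZ hYi hY _ _ _ _ (IsPullback.of_hasPullback g (b i)).flip hg
  have sq : IsPullback (pullback.fst f (pullback.fst g (b i)))
      (pullback.snd f (pullback.fst g (b i)) ≫ pullback.snd g (b i)) (f ≫ g) (b i) :=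
    (IsPullback.of_hasPullback f (pullback.fst g (b i))).paste_vert (IsPullback.of_hasPullback g (b i))
  have hmain : P (pullback.snd f (pullback.fst g (b i)) ≫ pullback.snd g (b i)) := by
    obtain ⟨κ, U, a, hUa, ha, has⟩ := exists_affine_cover hYi
    refine hP.of_middle hXi hYi (IsAlgSpace.yon_obj _) _ _ (fun k => (yon S).obj (U k)) a
      (fun k => IsAlgSpace.yon_obj _) (fun k => _root_.AlgSp.isEtaleMor_of_repWith _ (ha k)) has hfi
      fun k X' f' hX' hf' => ?_
    obtain ⟨m, hm⟩ := (yon S).map_surjective (a k ≫ pullback.snd g (b i))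
    have : Etale m.left := (isEtaleMor_yon_map_iff m).1 (by
      rw [hm]
      exact AlgSpCov.openClass_etale.comp (IsAlgSpace.yon_obj _) hYi (IsAlgSpace.yon_obj _) _ _
        (_root_.AlgSp.isEtaleMor_of_repWith _ (ha k)) hgi)
    rw [← hm]
    exact postcomp_etale_affine hP m hX' f' hf'
  rw [← sq.isoPullback_inv_snd]
  exact hP.precomp (AlgSp.isAlgSpace_pullback hZ hX (IsAlgSpace.yon_obj _) _ _) hXi (IsAlgSpace.yon_obj _) _ _
    (AlgSpCov.openClass_etale.of_openImm (AlgSp.isAlgSpace_pullback hZ hX (IsAlgSpace.yon_obj _) _ _) hXi _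
      (AlgSpB.repWith_of_isIso (P := @IsOpenImmersion) sq.isoPullback.inv)) hmain

end Groth.Agent.ESLocal
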