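import Groth.Agent.ESLocal.Core
import Mathlib.RingTheory.RingHom.StandardSmooth
import Mathlib.AlgebraicGeometry.Morphisms.Smooth

/-!
# Properties etale-smooth local on source-and-target
-/

universe u

open CategoryTheory CategoryTheory.Limits AlgebraicGeometry TensorProduct

set_option autoImplicit false
set_option linter.style.haveILetI false
set_option backward.isDefEq.respectTransparency false
set_option backward.isDefEq.respectTransparency.types false

namespace Groth.Agent.ESLocal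

open _root_.AlgSp
open Groth.Agent Groth.Agent.FlatMono

variable {S : Scheme.{u}} (P : MorphismProperty (Sp S))

/-- The local data through a point. -/
def Good {X Y : Sp S} (f : X ⟶ Y) (x : Points X) : Prop :=
  ∃ (V W U : Sp S) (b : V ⟶ Y) (p : W ⟶ X) (q : W ⟶ V) (e : U ⟶ W) (v : Points U),
    IsAlgSpace V ∧ IsAlgSpace W ∧ IsAlgSpace U ∧ LocP @Smooth b ∧ IsPullback p q f b ∧ IsEtaleMor e ∧
      Points.map (e ≫ p) v = x ∧ P (e ≫ q)

theorem isPullback_comp_mono {C : Type*} [Category C] {P X Y Z Z' : C} {fst : P ⟶ X} {snd : P ⟶ Y} {f : X ⟶ Z}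
    {g : Y ⟶ Z} (sq : IsPullback fst snd f g) (m : Z ⟶ Z') [Mono m] : IsPullback fst snd (f ≫ m) (g ≫ m) :=
  IsPullback.of_isLimit (h := PullbackCone.IsLimit.mk (by rw [reassoc_of% sq.w])
    (fun s => sq.lift s.fst s.snd ((cancel_mono m).1 (by simpa using s.condition)))
    (fun s => sq.lift_fst _ _ _) (fun s => sq.lift_snd _ _ _)
    (fun s k h1 h2 => sq.hom_ext (by rw [h1, sq.lift_fst]) (by rw [h2, sq.lift_snd])))

theorem etale_bc {X Y X' Y' : Sp S} (hY : IsAlgSpace Y) (hX : IsAlgSpace X) (hY' : IsAlgSpace Y') (hX' : IsAlgSpace X')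
    {f : X ⟶ Y} {g : Y' ⟶ Y} {g' : X' ⟶ X} {f' : X' ⟶ Y'} (sq : IsPullback g' f' f g) (hf : IsEtaleMor f) :
    IsEtaleMor f' :=
  AlgSpCov.openClass_etale.baseChange hY' hY hX' hX g f g' f' sq.flip hf

theorem etale_cancel {X Y Z : Sp S} (hX : IsAlgSpace X) (hY : IsAlgSpace Y) (hZ : IsAlgSpace Z)
    (f : X ⟶ Y) (g : Y ⟶ Z) (hfg : IsEtaleMor (f ≫ g)) (hg : IsEtaleMor g) : IsEtaleMor f :=
  (AlgSpCov.isEtaleMor_iff_locP_etale hX hY).2
    (Groth.Agent.AlgSp.locP_of_comp AlgSpCov.etaleLocal_etale (P := @Etale) (Q := @Etale) (R := @Etale)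
      (fun _ _ _ e h h₁ h₂ => MorphismProperty.of_postcomp @Etale e h h₂ h₁) hZ f g
      (AlgSpCov.locP_etale_of_isEtaleMor hfg) (AlgSpCov.locP_etale_of_isEtaleMor hg))

variable {P} (hP : Hyp P)
include hP

theorem good_baseChange {X Y X' Y' : Sp S} (hX : IsAlgSpace X) (hY : IsAlgSpace Y) (hX' : IsAlgSpace X')
    (hY' : IsAlgSpace Y') {f : X ⟶ Y} {g : Y' ⟶ Y} {f' : X' ⟶ Y'} {g' : X' ⟶ X} (sq : IsPullback g' f' f g)
    (hg : IsEtaleMor g) (x' : Points X') (h : Good P f (Points.map g' x')) : Good P f' x' := by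
  obtain ⟨V, W, U, b, p, q, e, v, hV, hW, hU, hb, sqW, he, hv, hPe⟩ := h
  -- the base changes
  have hV' : IsAlgSpace (pullback b g) := AlgSp.isAlgSpace_pullback hY hV hY' _ _
  have hW' : IsAlgSpace (pullback f' (pullback.snd b g)) := AlgSp.isAlgSpace_pullback hY' hX' hV' _ _
  let V' := pullback b g
  let W' := pullback f' (pullback.snd b g)
  let π : W' ⟶ W := sqW.lift (pullback.fst f' (pullback.snd b g) ≫ g') (pullback.snd f' _ ≫ pullback.fst b g)
    (by rw [Category.assoc, Category.assoc, sq.w, pullback.condition_assoc, pullback.condition])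
  have hπ : IsPullback π (pullback.snd f' (pullback.snd b g)) q (pullback.fst b g) := by
    refine IsPullback.of_right ?_ (sqW.lift_snd _ _ _) sqW
    rw [sqW.lift_fst, pullback.condition]
    exact (IsPullback.of_hasPullback f' (pullback.snd b g)).paste_horiz sq
  have hge : IsEtaleMor (pullback.fst b g) :=
    AlgSpCov.openClass_etale.baseChange hV hY hV' hY' _ _ _ _ (IsPullback.of_hasPullback b g) hg
  have hU' : IsAlgSpace (pullback e π) := AlgSp.isAlgSpace_pullback hW hU hW' _ _
  have hπ' : IsPullback (pullback.fst f' (pullback.snd b g)) π g' p := by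
    refine IsPullback.of_right (h₁₂ := f') (h₂₂ := f) (v₁₃ := g) ?_ (sqW.lift_fst _ _ _).symm sq.flip
    rw [pullback.condition, sqW.w]
    refine (IsPullback.paste_horiz ?_ (IsPullback.of_hasPullback b g).flip)
    exact hπ.flip
  obtain ⟨w', hw1, hw2⟩ := AlgSpB.exists_of_isPullback hπ' x' (Points.map e v)
    (by rw [← Points.map_comp, hv])
  obtain ⟨u', hu1, hu2⟩ := AlgSpB.exists_of_isPullback (IsPullback.of_hasPullback e π) v w' hw2.symm
  refine ⟨V', W', pullback e π, pullback.snd b g, pullback.fst f' _, pullback.snd f' _, pullback.snd e π, u', hV', hW',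
    hU', AlgSpCov.locP_baseChange AlgSpCov.etaleLocal_smooth hV hY (IsPullback.of_hasPullback b g) hb,
    IsPullback.of_hasPullback _ _,
    etale_bc hW hU hW' hU' (IsPullback.of_hasPullback e π) he, ?_, ?_⟩
  · rw [Points.map_comp, hu2, hw1]
  · exact hP.baseChange_etale hU hV hU' hV' ((IsPullback.of_hasPullback e π).paste_vert hπ) hge hPe

theorem good_precomp {X Y X' : Sp S} (hX : IsAlgSpace X) (hX' : IsAlgSpace X') {f : X ⟶ Y}
    {a : X' ⟶ X} (ha : IsEtaleMor a) (x' : Points X') (h : Good P f (Points.map a x')) : Good P (a ≫ f) x' := by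
  obtain ⟨V, W, U, b, p, q, e, v, hV, hW, hU, hb, sqW, he, hv, hPe⟩ := h
  have hW' : IsAlgSpace (pullback p a) := AlgSp.isAlgSpace_pullback hX hW hX' _ _
  have hU' : IsAlgSpace (pullback e (pullback.fst p a)) := AlgSp.isAlgSpace_pullback hW hU hW' _ _
  have hpa : IsEtaleMor (pullback.fst p a) :=
    AlgSpCov.openClass_etale.baseChange hW hX hW' hX' _ _ _ _ (IsPullback.of_hasPullback p a) ha
  obtain ⟨w', hw1, hw2⟩ := AlgSpB.exists_of_isPullback (IsPullback.of_hasPullback p a) (Points.map e v) x'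
    (by rw [← Points.map_comp, hv])
  obtain ⟨u', hu1, hu2⟩ := AlgSpB.exists_of_isPullback (IsPullback.of_hasPullback e (pullback.fst p a)) v w' hw1.symm
  refine ⟨V, _, _, b, pullback.snd p a, pullback.fst p a ≫ q, pullback.snd e (pullback.fst p a), u', hV, hW', hU', hb,
    (IsPullback.of_hasPullback p a).flip.paste_vert sqW |>.flip.flip, etale_bc hW hU hW' hU'
      (IsPullback.of_hasPullback e (pullback.fst p a)) he, ?_, ?_⟩
  · rw [Points.map_comp, hu2, hw2]
  · rw [← Category.assoc, ← pullback.condition, Category.assoc]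
    exact hP.precomp hU' hU hV _ _
      (AlgSpCov.openClass_etale.baseChange hU hW hU' hW' _ _ _ _ (IsPullback.of_hasPullback _ _) hpa) hPe

set_option maxHeartbeats 1000000 in
/-- The affine case near a point. -/
theorem exists_open_of_good {X Y : Over S} [IsAffine X.left] [IsAffine Y.left] (f : X ⟶ Y) (x : ↥X.left)
    (h : Good P ((yon S).map f) (Points.schemeHomeo X x)) :
    ∃ (X₀ : Over S) (j : X₀ ⟶ X), IsOpenImmersion j.left ∧ x ∈ Set.range j.left ∧
      P ((yon S).map j ≫ (yon S).map f) := by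
  obtain ⟨V, W, U, b, p, q, e, v, hV, hW, hU, hb, sqW, he, hv, hPe⟩ := h
  obtain ⟨Vs, c, vs, hc, hvs⟩ := AlgSpD.exists_chart ⟨V, hV⟩ (Points.map (e ≫ q) v)
  obtain ⟨β, hβ⟩ := (yon S).map_surjective (c ≫ b)
  have : Smooth β.left := hb c (𝟙 _) β hc (repWith_id _ Y) (by rw [hβ, Category.comp_id])
  obtain ⟨Y₁, hY₁, V₁, hV₁, hvV, hle, hstd⟩ := Smooth.exists_isStandardSmooth β.left vs
  have hce : IsEtaleMor c := _root_.AlgSp.isEtaleMor_of_repWith _ hc
  have hxy : f.left x = β.left vs := by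
    apply (Points.schemeHomeo Y).injective
    have h1 := congrArg (Points.map b) hvs
    rw [Points.map_ofPt, ← hβ, ← Category.comp_id ((yon S).map β), AlgSpB.ofPt_map_comp] at h1
    refine Eq.trans ?_ h1.symm
    rw [← Points.map_comp, Category.assoc, ← sqW.w, ← Category.assoc, Points.map_comp, hv]
    show _ = Points.map _ (Points.ofPt (𝟙 _) _)
    rw [Points.map_ofPt, Category.id_comp, ← Category.comp_id ((yon S).map f), AlgSpB.ofPt_map_comp]
    rfl
  obtain ⟨_, ⟨X₁, hX₁, rfl⟩, hxX, hX₁le⟩ := X.left.isBasis_affineOpens.exists_subset_of_mem_open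
    (show x ∈ (f.left ⁻¹ᵁ Y₁ : Set ↥X.left) by
      show f.left x ∈ Y₁
      rw [hxy]
      exact hle hvV) (f.left ⁻¹ᵁ Y₁).isOpen
  -- rings
  let A : Type u := Γ(Y.left, Y₁)
  let B : Type u := Γ(Vs.left, V₁)
  let C : Type u := Γ(X.left, X₁)
  letI : Algebra A B := (β.left.appLE Y₁ V₁ hle).hom.toAlgebra
  letI : Algebra A C := (f.left.appLE Y₁ X₁ hX₁le).hom.toAlgebra
  let sV : Spec (.of A) ⟶ S := hY₁.fromSpec ≫ Y.hom
  let jY : Over.mk sV ⟶ Y := Over.homMk hY₁.fromSpec rfl
  have hcB : Spec.map (CommRingCat.ofHom (algebraMap A B)) ≫ hY₁.fromSpec = hV₁.fromSpec ≫ β.left :=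
    IsAffineOpen.SpecMap_appLE_fromSpec β.left hY₁ hV₁ hle
  have hcC : Spec.map (CommRingCat.ofHom (algebraMap A C)) ≫ hY₁.fromSpec = hX₁.fromSpec ≫ f.left :=
    IsAffineOpen.SpecMap_appLE_fromSpec f.left hY₁ hX₁ hX₁le
  let jV : ovr sV B ⟶ Vs := Over.homMk hV₁.fromSpec (by
    show hV₁.fromSpec ≫ Vs.hom = Spec.map _ ≫ hY₁.fromSpec ≫ Y.hom
    rw [reassoc_of% hcB, Over.w β])
  let jX : ovr sV C ⟶ X := Over.homMk hX₁.fromSpec (by
    show hX₁.fromSpec ≫ X.hom = Spec.map _ ≫ hY₁.fromSpec ≫ Y.hom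
    rw [reassoc_of% hcC, Over.w f])
  have hjV : jV ≫ β = str sV B ≫ jY := Over.OverMorphism.ext hcB.symm
  have hjX : jX ≫ f = str sV C ≫ jY := Over.OverMorphism.ext hcC.symm
  have hjYo : RepWith @IsOpenImmersion ((yon S).map jY) :=
    (repWith_yon_map_iff _ _).2 (inferInstanceAs (IsOpenImmersion hY₁.fromSpec))
  have : Mono ((yon S).map jY) := AlgSpB.mono_of_isOpenImmersion hjYo
  obtain ⟨n, g, hgC, hg⟩ := RingHom.IsStandardSmooth.exists_etale_mvPolynomial hstd
  let gA : MvPolynomial (Fin n) A →ₐ[A] B := { g with commutes' := fun a => RingHom.congr_fun hgC a }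
  -- the product of the affine charts
  let cV : (yon S).obj (ovr sV B) ⟶ V := (yon S).map jV ≫ c
  have hcVe : IsEtaleMor cV := by
    have : Etale jV.left := inferInstanceAs (Etale hV₁.fromSpec)
    exact AlgSpCov.openClass_etale.comp (IsAlgSpace.yon_obj _) (IsAlgSpace.yon_obj _) hV _ _ (isEtaleMor_yon jV) hce
  have hV' := hV
  let Ub := pullback (e ≫ q) cV
  have hUb : IsAlgSpace Ub := AlgSp.isAlgSpace_pullback hV hU (IsAlgSpace.yon_obj _) _ _
  have hPb : P (pullback.snd (e ≫ q) cV) :=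
    hP.baseChange_etale hU hV hUb (IsAlgSpace.yon_obj _) (IsPullback.of_hasPullback _ _) hcVe hPe
  let Uc := pullback (pullback.fst (e ≫ q) cV ≫ e ≫ p) ((yon S).map jX)
  have hUc : IsAlgSpace Uc :=
    AlgSp.isAlgSpace_pullback (IsAlgSpace.yon_obj _) hUb (IsAlgSpace.yon_obj _) _ _
  have hjXe : IsEtaleMor ((yon S).map jX) := by
    have : Etale jX.left := inferInstanceAs (Etale hX₁.fromSpec)
    exact isEtaleMor_yon jX
  have hPc : P (pullback.fst (pullback.fst (e ≫ q) cV ≫ e ≫ p) ((yon S).map jX) ≫ pullback.snd (e ≫ q) cV) :=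
    hP.precomp hUc hUb (IsAlgSpace.yon_obj _) _ _ (AlgSpCov.openClass_etale.baseChange hUb (IsAlgSpace.yon_obj _)
      hUc (IsAlgSpace.yon_obj _) _ _ _ _ (IsPullback.of_hasPullback _ _) hjXe) hPb
  -- the scheme product
  let Z : Over S := pullback (str sV C) (str sV B)
  have sqZ : IsPullback ((yon S).map (pullback.fst (str sV C) (str sV B)))
      ((yon S).map (pullback.snd (str sV C) (str sV B))) ((yon S).map (str sV C)) ((yon S).map (str sV B)) :=
    (IsPullback.of_hasPullback (str sV C) (str sV B)).map (yon S)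
  let π : (yon S).obj Z ⟶ W := sqW.lift ((yon S).map (pullback.fst (str sV C) (str sV B) ≫ jX))
    ((yon S).map (pullback.snd (str sV C) (str sV B)) ≫ cV) (by
      simp only [cV, Category.assoc]
      rw [← hβ, ← Functor.map_comp, ← Functor.map_comp, ← Functor.map_comp, Category.assoc, hjX, hjV,
        pullback.condition_assoc])
  let κ : Uc ⟶ (yon S).obj Z := sqZ.lift (pullback.snd _ _)
    (pullback.fst (pullback.fst (e ≫ q) cV ≫ e ≫ p) ((yon S).map jX) ≫ pullback.snd (e ≫ q) cV) (by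
      rw [← cancel_mono ((yon S).map jY)]
      simp only [Category.assoc]
      rw [← Functor.map_comp, ← hjX, ← Functor.map_comp, ← hjV, Functor.map_comp, Functor.map_comp,
        ← pullback.condition_assoc, hβ]
      show _ = _ ≫ pullback.snd (e ≫ q) cV ≫ cV ≫ b
      rw [← pullback.condition_assoc]
      simp only [Category.assoc, sqW.w])
  have hκπ : κ ≫ π = (pullback.fst (pullback.fst (e ≫ q) cV ≫ e ≫ p) ((yon S).map jX) ≫
      pullback.fst (e ≫ q) cV) ≫ e := by
    refine sqW.hom_ext ?_ ?_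
    · simp only [π, Category.assoc, sqW.lift_fst, Functor.map_comp]
      rw [← Category.assoc, sqZ.lift_fst, ← pullback.condition]
    · simp only [π, Category.assoc, sqW.lift_snd]
      rw [← Category.assoc κ, sqZ.lift_snd]
      simp only [Category.assoc]
      rw [← pullback.condition]
  have hπe : IsEtaleMor π := by
    have hfz : IsEtaleMor (pullback.fst (e ≫ q) cV) :=
      AlgSpCov.openClass_etale.baseChange hU hV hUb (IsAlgSpace.yon_obj _) _ _ _ _ (IsPullback.of_hasPullback _ _) hcVe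
    have hWb : IsAlgSpace (pullback q cV) := AlgSp.isAlgSpace_pullback hV hW (IsAlgSpace.yon_obj _) _ _
    let l : (yon S).obj Z ⟶ pullback q cV := pullback.lift π ((yon S).map (pullback.snd (str sV C) (str sV B)))
      (sqW.lift_snd _ _ _)
    have hl : IsPullback ((yon S).map (pullback.fst (str sV C) (str sV B))) l ((yon S).map jX)
        (pullback.fst q cV ≫ p) := by
      refine IsPullback.of_bot ?_ (by rw [pullback.lift_fst_assoc, sqW.lift_fst, Functor.map_comp])
        ((IsPullback.of_hasPullback q cV).flip.paste_vert sqW.flip).flip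
      rw [pullback.lift_snd]
      have h := isPullback_comp_mono sqZ ((yon S).map jY)
      rw [← Functor.map_comp, ← Functor.map_comp, ← hjX, ← hjV, Functor.map_comp, Functor.map_comp, hβ,
        ← Category.assoc] at h
      exact h
    rw [← show l ≫ pullback.fst q cV = π from pullback.lift_fst _ _ _]
    refine AlgSpCov.openClass_etale.comp (IsAlgSpace.yon_obj _) hWb hW _ _ ?_
      (AlgSpCov.openClass_etale.baseChange hW hV hWb (IsAlgSpace.yon_obj _) _ _ _ _ (IsPullback.of_hasPullback _ _) hcVe)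
    exact etale_bc (IsAlgSpace.yon_obj _) (IsAlgSpace.yon_obj _) hWb (IsAlgSpace.yon_obj _) hl hjXe
  have hκe : IsEtaleMor κ := by
    refine etale_cancel hUc (IsAlgSpace.yon_obj _) hW κ π ?_ hπe
    rw [hκπ]
    refine AlgSpCov.openClass_etale.comp hUc hU hW _ _ (AlgSpCov.openClass_etale.comp hUc hUb hU _ _ ?_ ?_) he
    · exact AlgSpCov.openClass_etale.baseChange hUb (IsAlgSpace.yon_obj _) hUc (IsAlgSpace.yon_obj _) _ _ _ _
        (IsPullback.of_hasPullback _ _) hjXe
    · exact AlgSpCov.openClass_etale.baseChange hU hV hUb (IsAlgSpace.yon_obj _) _ _ _ _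
        (IsPullback.of_hasPullback _ _) hcVe
  -- the point
  let v₁ := hV₁.primeIdealOf ⟨vs, hvV⟩
  let x₁ := hX₁.primeIdealOf ⟨x, hxX⟩
  obtain ⟨ub, hub1, -⟩ := AlgSpB.exists_of_isPullback (IsPullback.of_hasPullback (e ≫ q) cV) v
    (Points.schemeHomeo (ovr sV B) v₁) (by
      show _ = Points.map cV (Points.ofPt (𝟙 _) v₁)
      rw [Points.map_ofPt, Category.id_comp, AlgSpB.ofPt_map_comp, ← hvs]
      exact congrArg (Points.ofPt c) (hV₁.fromSpec_primeIdealOf ⟨vs, hvV⟩).symm)
  obtain ⟨uc, huc1, huc2⟩ := AlgSpB.exists_of_isPullback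
    (IsPullback.of_hasPullback (pullback.fst (e ≫ q) cV ≫ e ≫ p) ((yon S).map jX)) ub
    (Points.schemeHomeo (ovr sV C) x₁) (by
      show _ = Points.map ((yon S).map jX) (Points.ofPt (𝟙 _) x₁)
      rw [Points.map_ofPt, Category.id_comp, ← Category.comp_id ((yon S).map jX), AlgSpB.ofPt_map_comp,
        Points.map_comp, hub1, hv]
      exact congrArg (Points.ofPt (𝟙 _)) (hX₁.fromSpec_primeIdealOf ⟨x, hxX⟩).symm)
  -- a scheme chart of the source
  obtain ⟨Us, d, us, hd, hdu⟩ := AlgSpD.exists_chart ⟨Uc, hUc⟩ uc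
  have hde : IsEtaleMor d := _root_.AlgSp.isEtaleMor_of_repWith _ hd
  obtain ⟨k, hk⟩ := (yon S).map_surjective (d ≫ κ)
  have hke : Etale k.left := (isEtaleMor_yon_map_iff k).1 (by
    rw [hk]
    exact AlgSpCov.openClass_etale.comp (IsAlgSpace.yon_obj _) hUc (IsAlgSpace.yon_obj _) _ _ hde hκe)
  have hPs : P ((yon S).map (k ≫ pullback.snd (str sV C) (str sV B))) := by
    rw [Functor.map_comp, hk, Category.assoc, sqZ.lift_snd]
    exact hP.precomp (IsAlgSpace.yon_obj _) hUc (IsAlgSpace.yon_obj _) _ _ hde hPc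
  have hkx : (k ≫ pullback.fst (str sV C) (str sV B)).left us = x₁ := by
    apply (Points.schemeHomeo (ovr sV C)).injective
    have h1 : Points.map (pullback.snd (pullback.fst (e ≫ q) cV ≫ e ≫ p) ((yon S).map jX)) (Points.ofPt d us) =
        Points.schemeHomeo (ovr sV C) x₁ := by rw [hdu, huc2]
    rw [← h1, Points.map_ofPt,
      show pullback.snd (pullback.fst (e ≫ q) cV ≫ e ≫ p) ((yon S).map jX) =
        κ ≫ (yon S).map (pullback.fst (str sV C) (str sV B)) from (sqZ.lift_fst _ _ _).symm,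
      ← Category.assoc, ← hk, ← Functor.map_comp,
      ← Category.comp_id ((yon S).map _), AlgSpB.ofPt_map_comp]
    rfl
  -- to affine space
  let AX := MvPolynomial (Fin n) A
  let CX := MvPolynomial (Fin n) C
  let qm : AX →ₐ[A] CX := MvPolynomial.mapAlgHom (Algebra.ofId A C)
  have hgE : Etale (hom sV gA).left := (HasRingHomProperty.Spec_iff (P := @Etale)).2 hg
  have hPA : P ((yon S).map (k ≫ pullback.snd (str sV C) (str sV B)) ≫ (yon S).map (hom sV gA)) :=
    postcomp_etale hP (IsAlgSpace.yon_obj _) (IsAlgSpace.yon_obj _) (IsAlgSpace.yon_obj _) _ _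
      (isEtaleMor_yon (hom sV gA)) hPs
  have sqA : IsPullback (hom sV (IsScalarTower.toAlgHom A C CX)) (hom sV qm) (str sV C) (str sV AX) := by
    letI : Algebra AX CX := MvPolynomial.algebraMvPolynomial
    refine IsPullback.of_map (Over.forget S) (by rw [hom_str, hom_str]) ?_
    exact isPullback_SpecMap_of_isPushout _ _ _ _ (isPushout_mvPolynomial A C n).flip
  let l : Z ⟶ ovr sV CX := sqA.lift (pullback.fst (str sV C) (str sV B))
    (pullback.snd (str sV C) (str sV B) ≫ hom sV gA) (by rw [Category.assoc, hom_str, pullback.condition])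
  have sql : IsPullback l (pullback.snd (str sV C) (str sV B)) (hom sV qm) (hom sV gA) := by
    refine IsPullback.of_right ?_ (sqA.lift_snd _ _ _) sqA
    rw [sqA.lift_fst, hom_str]
    exact IsPullback.of_hasPullback _ _
  have hle' : Etale l.left := MorphismProperty.of_isPullback (sql.map (Over.forget S)).flip hgE
  let m : Us ⟶ ovr sV CX := k ≫ l
  have hme : Etale m.left := inferInstanceAs (Etale (k.left ≫ l.left))
  let O : (ovr sV CX).left.Opens := ⟨Set.range m.left, m.left.isOpenMap.isOpen_range⟩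
  let OO : Over S := Over.mk (O.ι ≫ (ovr sV CX).hom)
  let iO : OO ⟶ ovr sV CX := Over.homMk O.ι rfl
  have hPO : P ((yon S).map iO ≫ (yon S).map (hom sV qm)) := by
    let m₀ : Us ⟶ OO := Over.homMk (IsOpenImmersion.lift O.ι m.left ((Scheme.Opens.range_ι O).symm ▸ le_refl _))
      (by show _ ≫ O.ι ≫ _ = _; rw [IsOpenImmersion.lift_fac_assoc]; exact Over.w m)
    have hm₀ : m₀ ≫ iO = m := Over.OverMorphism.ext (IsOpenImmersion.lift_fac _ _ _)
    have : Etale m₀.left := by
      have : Etale (m₀.left ≫ O.ι) := by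
        rw [show m₀.left ≫ O.ι = m.left from IsOpenImmersion.lift_fac _ _ _]; exact hme
      exact MorphismProperty.of_postcomp (W := @Etale) (W' := @Etale) m₀.left O.ι (inferInstance : Etale O.ι) this
    refine hP.of_source (ι := PUnit.{u + 1}) (IsAlgSpace.yon_obj _) (IsAlgSpace.yon_obj _) _ (fun _ => (yon S).obj Us)
      (fun _ => (yon S).map m₀) (fun _ => IsAlgSpace.yon_obj _) (fun _ => isEtaleMor_yon m₀) (fun z => ?_) fun _ => ?_
    · obtain ⟨z, rfl⟩ := (Points.schemeHomeo OO).surjective z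
      obtain ⟨t, ht⟩ := z.2
      refine ⟨⟨⟩, (mem_range_map_yon m₀).2 ⟨t, O.ι.isOpenEmbedding.injective ?_⟩⟩
      show (m₀.left ≫ O.ι) t = _
      rw [show m₀.left ≫ O.ι = m.left from IsOpenImmersion.lift_fac _ _ _]
      exact ht
    · rw [← Category.assoc, ← Functor.map_comp, hm₀, ← Functor.map_comp, Category.assoc, sqA.lift_snd,
        ← Category.assoc, Functor.map_comp]
      exact hPA
  -- shrink to the image
  let πC := hom sV (IsScalarTower.toAlgHom A C CX)
  have hopen : IsOpen (πC.left '' (O : Set ↥(ovr sV CX).left)) := by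
    haveI : Algebra.Smooth A AX := ⟨inferInstance, inferInstance⟩
    have hs : Smooth (str sV AX).left := by
      show Smooth (Spec.map _)
      rw [HasRingHomProperty.Spec_iff (P := @Smooth)]
      exact RingHom.smooth_algebraMap.2 inferInstance
    have : Smooth πC.left := MorphismProperty.of_isPullback (sqA.map (Over.forget S)).flip hs
    exact πC.left.isOpenMap _ O.2
  have hx₁ : x₁ ∈ πC.left '' (O : Set ↥(ovr sV CX).left) := by
    refine ⟨m.left us, ⟨us, rfl⟩, ?_⟩
    show (m ≫ πC).left us = x₁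
    rw [Category.assoc, sqA.lift_fst]
    exact hkx
  obtain ⟨_, ⟨s, rfl⟩, hs, hsO⟩ := PrimeSpectrum.isTopologicalBasis_basic_opens.exists_subset_of_mem_open hx₁ hopen
  let C' := Localization.Away s
  let iC : ovr sV C' ⟶ ovr sV C := hom sV (IsScalarTower.toAlgHom A C C')
  have : IsOpenImmersion (Spec.map (CommRingCat.ofHom (algebraMap C C'))) := IsOpenImmersion.of_isLocalization s
  have hiC : IsOpenImmersion iC.left := this
  refine ⟨ovr sV C', iC ≫ jX, ?_, ?_, ?_⟩
  · have : IsOpenImmersion jX.left := inferInstanceAs (IsOpenImmersion hX₁.fromSpec)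
    exact inferInstanceAs (IsOpenImmersion (iC.left ≫ jX.left))
  · obtain ⟨z, hz⟩ : x₁ ∈ Set.range iC.left := (PrimeSpectrum.localization_away_comap_range C' s).symm.le hs
    exact ⟨z, (congrArg jX.left hz).trans (hX₁.fromSpec_primeIdealOf ⟨x, hxX⟩)⟩
  · have e0 : (iC ≫ jX) ≫ f = str sV C' ≫ jY := by rw [Category.assoc, hjX, ← Category.assoc, hom_str]
    rw [← Functor.map_comp, e0, Functor.map_comp]
    refine hP.postOpen (IsAlgSpace.yon_obj _) (IsAlgSpace.yon_obj _) (IsAlgSpace.yon_obj _) _ _ ?_ hjYo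
    let iX : MvPolynomial (Fin n) C →ₐ[A] MvPolynomial (Fin n) C' :=
      MvPolynomial.mapAlgHom (IsScalarTower.toAlgHom A C C')
    have sqC : IsPullback (hom sV iX).left (hom sV (IsScalarTower.toAlgHom A C' (MvPolynomial (Fin n) C'))).left
        πC.left iC.left := by
      letI : Algebra CX (MvPolynomial (Fin n) C') := MvPolynomial.algebraMvPolynomial
      exact isPullback_SpecMap_of_isPushout _ _ _ _ (isPushout_mvPolynomial C C' n)
    refine core hP sV n ((hom sV iX).left ⁻¹ᵁ O) (fun z => ?_) ?_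
    · obtain ⟨η, hη, hηz⟩ := hsO ((PrimeSpectrum.localization_away_comap_range C' s).le ⟨z, rfl⟩ : iC.left z ∈ _)
      obtain ⟨η', h1, h2⟩ := Scheme.exists_preimage_of_isPullback sqC η z hηz
      exact ⟨η', show (hom sV iX).left η' ∈ O by rw [h1]; exact hη, congrArg PrimeSpectrum.asIdeal h2⟩
    · have hie : Etale (hom sV iX).left := by
        have : Etale iC.left := inferInstance
        exact MorphismProperty.of_isPullback sqC.flip this
      let O'' := (hom sV iX).left ⁻¹ᵁ O
      let r : Over.mk (O''.ι ≫ (ovr sV (MvPolynomial (Fin n) C')).hom) ⟶ OO :=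
        Over.homMk ((hom sV iX).left ∣_ O) (by
          show _ ≫ O.ι ≫ _ = O''.ι ≫ _
          rw [morphismRestrict_ι_assoc]
          exact congrArg (O''.ι ≫ ·) (Over.w (hom sV iX)))
      have : Etale r.left := MorphismProperty.of_isPullback (P := @Etale)
        (isPullback_morphismRestrict (hom sV iX).left O).flip hie
      have e1 : iX.comp qm = MvPolynomial.mapAlgHom (Algebra.ofId A C') :=
        MvPolynomial.algHom_ext fun i => by simp only [iX, qm, AlgHom.comp_apply, mapAlgHom_X]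
      have e2 : hom sV iX ≫ hom sV qm = hom sV (MvPolynomial.mapAlgHom (Algebra.ofId A C')) := by
        rw [← e1]
        refine Over.OverMorphism.ext ?_
        show Spec.map _ ≫ Spec.map _ = Spec.map _
        rw [← Spec.map_comp, ← CommRingCat.ofHom_comp]
        rfl
      rw [← e2, Functor.map_comp, ← Category.assoc, ← Functor.map_comp,
        show (Over.homMk O''.ι rfl : Over.mk (O''.ι ≫ (ovr sV (MvPolynomial (Fin n) C')).hom) ⟶ _) ≫ hom sV iX = r ≫ iO
          from Over.OverMorphism.ext (morphismRestrict_ι _ _).symm, Functor.map_comp, Category.assoc]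
      exact hP.precomp (IsAlgSpace.yon_obj _) (IsAlgSpace.yon_obj _) (IsAlgSpace.yon_obj _) _ _ (isEtaleMor_yon r) hPO

/-- The criterion. -/
theorem of_good {X Y : Sp S} (hX : IsAlgSpace X) (hY : IsAlgSpace Y) (f : X ⟶ Y) (H : ∀ x, Good P f x) : P f := by
  obtain ⟨ι, T, b, hTa, hb, hbs⟩ := exists_affine_cover hY
  refine hP.of_base hX hY _ (fun i => (yon S).obj (T i)) b (fun i => IsAlgSpace.yon_obj _)
    (fun i => AlgSpCov.smooth_of_etale (_root_.AlgSp.isEtaleMor_of_repWith _ (hb i))) hbs fun i => ?_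
  have hbe : IsEtaleMor (b i) := _root_.AlgSp.isEtaleMor_of_repWith _ (hb i)
  have hXi : IsAlgSpace (pullback f (b i)) := AlgSp.isAlgSpace_pullback hY hX (IsAlgSpace.yon_obj _) _ _
  obtain ⟨κ, U, a, hUa, ha, has⟩ := exists_affine_cover hXi
  refine hP.of_source hXi (IsAlgSpace.yon_obj _) _ (fun k => (yon S).obj (U k)) a (fun k => IsAlgSpace.yon_obj _)
    (fun k => _root_.AlgSp.isEtaleMor_of_repWith _ (ha k)) has fun k => ?_
  obtain ⟨m, hm⟩ := (yon S).map_surjective (a k ≫ pullback.snd f (b i))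
  rw [← hm]
  have hgood : ∀ x : ↥(U k).left, Good P ((yon S).map m) (Points.schemeHomeo (U k) x) := fun x => by
    rw [hm]
    exact good_precomp hP hXi (IsAlgSpace.yon_obj _) (_root_.AlgSp.isEtaleMor_of_repWith _ (ha k)) _
      (good_baseChange hP hX hY hXi (IsAlgSpace.yon_obj _) (IsPullback.of_hasPullback f (b i)) hbe _ (H _))
  have := hUa k
  have := hTa i
  choose X₀ j hj hjx hjP using fun x => exists_open_of_good hP m x (hgood x)
  refine hP.of_source (IsAlgSpace.yon_obj _) (IsAlgSpace.yon_obj _) _ (fun x => (yon S).obj (X₀ x))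
    (fun x => (yon S).map (j x)) (fun x => IsAlgSpace.yon_obj _)
    (fun x => have := hj x; isEtaleMor_yon (j x)) (fun y => ?_) hjP
  obtain ⟨y, rfl⟩ := (Points.schemeHomeo (U k)).surjective y
  exact ⟨y, (mem_range_map_yon (j y)).2 (hjx y)⟩

/-- The criterion for etale-smooth locality on source-and-target. -/
theorem isEtaleSmoothLocalST : IsEtaleSmoothLocalST P where
  precomp X Y Z hX hY hZ f g hf hg := hP.precomp hX hY hZ f g hf hg
  baseChange X Y X' Y' hX hY hX' hY' f g f' g' sq hg hf := hP.baseChange hX hY hX' hY' sq hg hf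
  locality X Y hX hY f := by
    refine ⟨fun hf x => ?_, fun H => of_good hP hX hY f H⟩
    exact ⟨Y, X, X, 𝟙 Y, 𝟙 X, f, 𝟙 X, x, hY, hX, hX, AlgSpCov.smooth_id hY, IsPullback.of_id_fst ..,
      AlgSpCov.etale_id hX, by rw [Category.comp_id]; exact Points.map_id x, by rw [Category.id_comp]; exact hf⟩

end Groth.Agent.ESLocal
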